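import Cfsg.Agent.Lib.Helper9.BG1356.Main
import Cfsg.Agent.Lib.Helper72.BG1356.PkgN
import Cfsg.Agent.Lib.Helper77.BG1356.PkgA
import Cfsg.Agent.Lib.Helper77.BG1356.PkgC
import Cfsg.Agent.Lib.Helper11.BG1356.PkgB

/-!
Statement S1356 (BG Lemma 15.1(b),(d)) with S1350, S1351, S1352, S1355, S1364, S1365, S1420,
S1421, S1430, S1437, S1439 as hypotheses: the assembly `s1356_core` with the four generic
packages (helper72: PkgN, helper77: PkgA, PkgC, helper11: PkgB) plugged in.  (helper9)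
-/

set_option autoImplicit false

namespace Cfsg.Agent.Lib.Helper9.BG1356

open Cfsg

theorem s1356_core' {G : Type*} [Group G] [Finite G] (hG : Cfsg.IsMinSimpleOddOrder G)
    (h1350 : type_of% (@Cfsg.CfsgFrozen.S1350 G _ _ hG))
    (h1351 : type_of% (@Cfsg.CfsgFrozen.S1351 G _ _ hG))
    (h1352 : type_of% (@Cfsg.CfsgFrozen.S1352 G _ _ hG))
    (h1355 : type_of% (@Cfsg.CfsgFrozen.S1355 G _ _ hG))
    (h1364 : type_of% (@Cfsg.CfsgFrozen.S1364 G _ _ hG))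
    (h1365 : type_of% (@Cfsg.CfsgFrozen.S1365 G _ _ hG))
    (h1420 : type_of% (@Cfsg.CfsgFrozen.S1420 G _ _ hG))
    (h1421 : type_of% (@Cfsg.CfsgFrozen.S1421 G _ _ hG))
    (h1430 : type_of% (@Cfsg.CfsgFrozen.S1430 G _ _ hG))
    (h1437 : type_of% (@Cfsg.CfsgFrozen.S1437 G _ _ hG))
    (h1439 : type_of% (@Cfsg.CfsgFrozen.S1439 G _ _ hG))
    (M : Subgroup G) (hM : IsCoatom M) :
    ⁅⁅M, M⁆, ⁅M, M⁆⁆ ≤ Cfsg.fittingOf M ∧
      Cfsg.fittingOf M =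
        (M ⊓ Subgroup.centralizer (Cfsg.fittingHallOf M : Set G)) ⊔ Cfsg.fittingHallOf M ∧
      ((Cfsg.kappa M).Nonempty → Cfsg.fittingOf M ≤ ⁅M, M⁆) :=
  s1356_core Cfsg.Agent.Lib.Helper77.BG1356.pkgA Cfsg.Agent.Lib.Helper72.BG1356.pkgN
    Cfsg.Agent.Lib.Helper77.BG1356.pkgC Cfsg.Agent.Lib.Helper11.BG1356.pkgB hG
    h1350 h1351 h1352 h1355 h1364 h1365 h1420 h1421 h1430 h1437 h1439 M hM

end Cfsg.Agent.Lib.Helper9.BG1356
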