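import Mathlib
import Cfsg.Statements.S1350
import Cfsg.Statements.S1351
import Cfsg.Statements.S1352
import Cfsg.Statements.S1355
import Cfsg.Statements.S1364
import Cfsg.Statements.S1365
import Cfsg.Statements.S1420
import Cfsg.Statements.S1421
import Cfsg.Statements.S1430
import Cfsg.Statements.S1437
import Cfsg.Statements.S1439
import Cfsg.Agent.Lib.Helper9.BG1356.Defs
import Cfsg.Agent.Lib.Helper35.BG.S1355Core
import Cfsg.Agent.Lib.Helper67.BG.S1439Core
import Cfsg.Agent.Lib.Helper67.BG.HallUtil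

/-!
Bender–Glauberman Lemma 15.1(b),(d) (statement S1356): `M'' ≤ F(M) = C_M(M_F) M_F`, and
`F(M) ≤ M'` when `κ(M) ≠ ∅`.  Assembly from the generic packages `PkgA`, `PkgN`, `PkgC`, `PkgB`
and the statements S1350, S1351, S1352, S1355, S1364, S1365, S1420, S1421, S1430, S1437, S1439
(taken as hypotheses).  (helper9)
-/

set_option autoImplicit false
set_option linter.unusedSectionVars false
set_option linter.style.haveILetI false
set_option linter.unusedVariables false

namespace Cfsg.Agent.Lib.Helper9.BG1356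

open Cfsg
open Cfsg.Agent.Lib.Helper35.BG Cfsg.Agent.Lib.Helper67.BG
open scoped commutatorElement

universe u

section general

variable {G : Type*} [Group G]

theorem bg56_exists_mul_of_mem_sup {N H : Subgroup G}
    (hLE : H ≤ Subgroup.normalizer (N : Set G))
    {x : G} (hx : x ∈ N ⊔ H) : ∃ n ∈ N, ∃ h ∈ H, x = n * h := by
  have h1 : x ∈ ((N ⊔ H : Subgroup G) : Set G) := hx
  rw [Subgroup.coe_mul_of_right_le_normalizer_left N H hLE] at h1
  obtain ⟨n, hn, h, hh, rfl⟩ := h1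
  exact ⟨n, hn, h, hh, rfl⟩

/-- `[QD, QD] ≤ Q [D, D]` when `D` normalizes `Q`. -/
theorem bg56_commutator_sup_le (Q D : Subgroup G)
    (hDQ : D ≤ Subgroup.normalizer (Q : Set G)) :
    ⁅Q ⊔ D, Q ⊔ D⁆ ≤ Q ⊔ ⁅D, D⁆ := by
  rw [Subgroup.commutator_le]
  intro g₁ hg₁ g₂ hg₂
  obtain ⟨x, hx, d, hd, rfl⟩ := bg56_exists_mul_of_mem_sup hDQ hg₁
  obtain ⟨y, hy, e, he, rfl⟩ := bg56_exists_mul_of_mem_sup hDQ hg₂
  have key : ⁅x * d, y * e⁆ = x * (d * y * d⁻¹) * ⁅d, e⁆ * (e * x⁻¹ * e⁻¹) * y⁻¹ := by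
    simp only [commutatorElement_def]; group
  rw [key]
  have h1 : d * y * d⁻¹ ∈ Q := (Subgroup.mem_normalizer_iff.mp (hDQ hd) y).mp hy
  have h2 : e * x⁻¹ * e⁻¹ ∈ Q :=
    (Subgroup.mem_normalizer_iff.mp (hDQ he) x⁻¹).mp (Q.inv_mem hx)
  have h3 : ⁅d, e⁆ ∈ ⁅D, D⁆ := Subgroup.commutator_mem_commutator hd he
  exact mul_mem (mul_mem (mul_mem (mul_mem (Subgroup.mem_sup_left hx)
    (Subgroup.mem_sup_left h1)) (Subgroup.mem_sup_right h3)) (Subgroup.mem_sup_left h2))
    (Subgroup.mem_sup_left (Q.inv_mem hy))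

/-- If `N` is normalized by `M ∋ k` and `K ∩ N = 1`, then `orderOf k ∣ orderOf (k n)` for
`k ∈ K`, `n ∈ N`. -/
theorem bg56_orderOf_dvd_of_mul {M N K : Subgroup G}
    (hMN : M ≤ Subgroup.normalizer (N : Set G)) (hKN : K ⊓ N = ⊥) {k n : G} (hk : k ∈ K)
    (hkM : k ∈ M) (hn : n ∈ N) : orderOf k ∣ orderOf (k * n) := by
  have key : ∀ j : ℕ, ∃ m ∈ N, (k * n) ^ j = k ^ j * m := by
    intro j
    induction j with
    | zero => exact ⟨1, N.one_mem, by simp⟩
    | succ j ih =>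
      obtain ⟨m, hm, hj⟩ := ih
      refine ⟨k⁻¹ * m * k * n, ?_, ?_⟩
      · refine N.mul_mem ?_ hn
        have := (Subgroup.mem_normalizer_iff.mp (hMN (M.inv_mem hkM)) m).mp hm
        simpa using this
      · rw [pow_succ, hj, pow_succ]; group
  obtain ⟨m, hm, hj⟩ := key (orderOf (k * n))
  rw [pow_orderOf_eq_one] at hj
  have h1 : k ^ orderOf (k * n) = m⁻¹ := eq_inv_of_mul_eq_one_left hj.symm
  have h2 : k ^ orderOf (k * n) ∈ K ⊓ N := ⟨K.pow_mem hk _, h1 ▸ N.inv_mem hm⟩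
  rw [hKN, Subgroup.mem_bot] at h2
  exact orderOf_dvd_of_pow_eq_one h2

/-- Two elementwise commuting nilpotent subgroups generate a nilpotent subgroup. -/
theorem bg56_isNilpotent_sup_of_commute (A B : Subgroup G)
    (hAB : ∀ a ∈ A, ∀ b ∈ B, a * b = b * a) (hA : Group.IsNilpotent A)
    (hB : Group.IsNilpotent B) : Group.IsNilpotent ↥(A ⊔ B) := by
  have hcomm : ∀ (a : ↥A) (b : ↥B), Commute (A.subtype a) (B.subtype b) :=
    fun a b => hAB a a.2 b b.2
  have hr : (MonoidHom.noncommCoprod A.subtype B.subtype hcomm).range = A ⊔ B := by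
    rw [MonoidHom.noncommCoprod_range, Subgroup.range_subtype, Subgroup.range_subtype]
  rw [← hr]
  haveI := hA
  haveI := hB
  exact Group.nilpotent_of_surjective
    (MonoidHom.noncommCoprod A.subtype B.subtype hcomm).rangeRestrict
    (MonoidHom.noncommCoprod A.subtype B.subtype hcomm).rangeRestrict_surjective

/-- The commutator of two subgroups normalized by `M` is normalized by `M`. -/
theorem bg56_le_normalizer_commutator {M H₁ H₂ : Subgroup G}
    (h1 : M ≤ Subgroup.normalizer (H₁ : Set G)) (h2 : M ≤ Subgroup.normalizer (H₂ : Set G)) :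
    M ≤ Subgroup.normalizer ((⁅H₁, H₂⁆ : Subgroup G) : Set G) := by
  intro g hg
  apply Subgroup.mem_normalizer_iff_map_conj_eq.mpr
  rw [Subgroup.map_commutator, Subgroup.mem_normalizer_iff_map_conj_eq.mp (h1 hg),
    Subgroup.mem_normalizer_iff_map_conj_eq.mp (h2 hg)]

/-- A commutative subgroup is nilpotent. -/
theorem bg56_isNilpotent_of_comm (S : Subgroup G) (h : ∀ a ∈ S, ∀ b ∈ S, a * b = b * a) :
    Group.IsNilpotent ↥S := by
  letI : CommGroup ↥S :=
    { (inferInstance : Group ↥S) with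
      mul_comm := fun a b => Subtype.ext (h a a.2 b b.2) }
  exact (inferInstance : Group.IsNilpotent ↥S)

end general

section bg

variable {G : Type u} [Group G] [Finite G]

/-- No prime of `κ(M)` divides the order of an element of `C_M(M_F)` (when `K ≠ 1`). -/
theorem bg56_no_kappa (hG : Cfsg.IsMinSimpleOddOrder G)
    (h1364 : type_of% (@Cfsg.CfsgFrozen.S1364 G _ _ hG))
    (h1430 : type_of% (@Cfsg.CfsgFrozen.S1430 G _ _ hG))
    (M : Subgroup G) (hM : IsCoatom M) (K U : Subgroup G) (hKU : IsSigmaDecomposition M K U)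
    (hK1 : K ≠ ⊥) (c : G) (hcM : c ∈ M)
    (hc : c ∈ Subgroup.centralizer (fittingHallOf M : Set G)) (r : ℕ) (hr : r ∈ kappa M) :
    ¬ r ∣ orderOf c := by
  intro hdvd
  have hK := hKU.hall
  have hMsolv : Group.IsSolvable M := hG.2.2.2 M hM.1
  have hrp : r.Prime := hr.1
  have hFσ := fittingHallOf_le_sigmaCore hG M hM
  have hFn : M ≤ Subgroup.normalizer (fittingHallOf M : Set G) :=
    le_normalizer_map_subtype M (fittingHall M)
  have hzo : orderOf (c ^ (orderOf c / r)) = r :=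
    orderOf_pow_orderOf_div (orderOf_pos c).ne' hdvd
  have hzM : c ^ (orderOf c / r) ∈ M := M.pow_mem hcM _
  have hzc : c ^ (orderOf c / r) ∈ Subgroup.centralizer (fittingHallOf M : Set G) :=
    Subgroup.pow_mem _ hc _
  generalize c ^ (orderOf c / r) = z at hzo hzM hzc
  have hz1 : z ≠ 1 := by
    intro h
    rw [h, orderOf_one] at hzo
    exact hrp.one_lt.ne hzo
  have hZM : Subgroup.zpowers z ≤ M := by
    rw [Subgroup.zpowers_le]; exact hzM
  have hZ : ∀ p : ℕ, p.Prime → p ∣ Nat.card (Subgroup.zpowers z) → p ∈ kappa M := by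
    intro p hp hpd
    rw [Nat.card_zpowers, hzo] at hpd
    rw [(Nat.prime_dvd_prime_iff_eq hp hrp).mp hpd]
    exact hr
  obtain ⟨K', hK', hZK'⟩ := exists_piHallOf_ge (kappa M) M hMsolv _ hZM hZ
  obtain ⟨m, hm, hKeq⟩ := exists_conj_of_isPiHallOf hMsolv hK' hK
  have hkK : m * z * m⁻¹ ∈ K := by
    rw [hKeq]
    exact conj_mem_map_conj m (hZK' (Subgroup.mem_zpowers z))
  have hk1 : m * z * m⁻¹ ≠ 1 := by
    intro h
    apply hz1
    have e : z = m⁻¹ * (m * z * m⁻¹) * m := by group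
    rw [e, h]
    group
  have hkc : fittingHallOf M ≤ Subgroup.centralizer ({m * z * m⁻¹} : Set G) := by
    intro y hy
    rw [Subgroup.mem_centralizer_iff]
    intro h hh
    rw [Set.mem_singleton_iff.mp hh]
    have hy' : m⁻¹ * y * m ∈ fittingHallOf M := by
      have := (Subgroup.mem_normalizer_iff.mp (hFn (M.inv_mem hm)) y).mp hy
      simpa using this
    have hcomm : (m⁻¹ * y * m) * z = z * (m⁻¹ * y * m) :=
      Subgroup.mem_centralizer_iff.mp hzc _ hy'
    calc m * z * m⁻¹ * y = m * (z * (m⁻¹ * y * m)) * m⁻¹ := by group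
      _ = m * ((m⁻¹ * y * m) * z) * m⁻¹ := by rw [hcomm]
      _ = y * (m * z * m⁻¹) := by group
  obtain ⟨hprime, -, -⟩ := h1430 M hM K hK hK1
  obtain ⟨hcyc, -, -, hncyc⟩ := h1364 M hM K U hKU hK1
  have hle : fittingHallOf M ≤ sigmaCore M ⊓ Subgroup.centralizer (K : Set G) := by
    rw [← hprime _ hkK hk1]
    exact le_inf hFσ hkc
  haveI := hcyc
  exact hncyc (Subgroup.isCyclic_of_le hle)

/-- `C_M(M_F) ≤ U M_σ` when `K ≠ 1`. -/
theorem bg56_centralizer_le (hG : Cfsg.IsMinSimpleOddOrder G)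
    (h1364 : type_of% (@Cfsg.CfsgFrozen.S1364 G _ _ hG))
    (h1430 : type_of% (@Cfsg.CfsgFrozen.S1430 G _ _ hG))
    (M : Subgroup G) (hM : IsCoatom M) (K U : Subgroup G) (hKU : IsSigmaDecomposition M K U)
    (hK1 : K ≠ ⊥)
    (hUn : M ≤ Subgroup.normalizer ((U ⊔ sigmaCore M : Subgroup G) : Set G)) :
    M ⊓ Subgroup.centralizer (fittingHallOf M : Set G) ≤ U ⊔ sigmaCore M := by
  rintro c ⟨hcM, hcc⟩
  have hK := hKU.hall
  have hσM := sigmaCore_le M
  have hσn := sigmaCore_normalizer M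
  obtain ⟨hUM, hKσM, hinf, hprod⟩ := hKU.compl
  obtain ⟨a, ha, b, hb, hab⟩ := hprod c hcM
  have hKσ : K ≤ Subgroup.normalizer (sigmaCore M : Set G) := hK.1.trans hσn
  have hUσ : U ≤ Subgroup.normalizer (sigmaCore M : Set G) := hUM.trans hσn
  rw [sup_comm] at hb
  obtain ⟨s, hs, k, hk, hbs⟩ := bg56_exists_mul_of_mem_sup hKσ hb
  have hKσbot : K ⊓ sigmaCore M = ⊥ := by
    apply Disjoint.eq_bot
    apply Subgroup.disjoint_of_coprime_natCard
    by_contra hnc
    obtain ⟨p, hp, hp1, hp2⟩ := Nat.Prime.not_coprime_iff_dvd.mp hnc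
    exact (hK.2.1 p hp hp1).2.2.1 (sigmaCore_isPi M p hp hp2)
  have hKN : K ⊓ (U ⊔ sigmaCore M) = ⊥ := by
    rw [eq_bot_iff]
    rintro x ⟨hxK, hxN⟩
    have hxN' : x ∈ sigmaCore M ⊔ U := by rw [sup_comm]; exact hxN
    obtain ⟨s', hs', u', hu', hx⟩ := bg56_exists_mul_of_mem_sup hUσ hxN'
    have hu1 : u' ∈ U ⊓ (K ⊔ sigmaCore M) := by
      refine ⟨hu', ?_⟩
      have e : u' = s'⁻¹ * x := by rw [hx]; group
      rw [e]
      exact mul_mem (Subgroup.mem_sup_right (inv_mem hs')) (Subgroup.mem_sup_left hxK)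
    rw [hinf, Subgroup.mem_bot] at hu1
    rw [hu1, mul_one] at hx
    have hx2 : x ∈ K ⊓ sigmaCore M := ⟨hxK, hx ▸ hs'⟩
    rwa [hKσbot] at hx2
  have hkM : k ∈ M := hK.1 hk
  have hnN : k⁻¹ * a * k * (k⁻¹ * s * k) ∈ U ⊔ sigmaCore M := by
    refine mul_mem (Subgroup.mem_sup_left ?_) (Subgroup.mem_sup_right ?_)
    · have := (Subgroup.mem_normalizer_iff.mp (hKU.normal (K.inv_mem hk)) a).mp ha
      simpa using this
    · have := (Subgroup.mem_normalizer_iff.mp (hKσ (K.inv_mem hk)) s).mp hs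
      simpa using this
  have hckn : c = k * (k⁻¹ * a * k * (k⁻¹ * s * k)) := by
    rw [hab, hbs]; group
  have hdvd : orderOf k ∣ orderOf c := by
    rw [hckn]
    exact bg56_orderOf_dvd_of_mul hUn hKN hk hkM hnN
  have hk1 : k = 1 := by
    by_contra hk1
    have hok : orderOf k ≠ 1 := by rwa [Ne, orderOf_eq_one_iff]
    obtain ⟨r, hr, hrk⟩ := Nat.exists_prime_and_dvd hok
    have hrK : r ∣ Nat.card K := hrk.trans (Subgroup.orderOf_dvd_natCard K hk)
    exact bg56_no_kappa hG h1364 h1430 M hM K U hKU hK1 c hcM hcc r (hK.2.1 r hr hrK)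
      (hrk.trans hdvd)
  subst hk1
  rw [hckn, one_mul]
  exact hnN

/-- Statement S1356 from the packages and the earlier statements. -/
theorem s1356_core (hA : PkgA.{u}) (hN : PkgN.{u}) (hC : PkgC.{u}) (hB : PkgB.{u})
    (hG : Cfsg.IsMinSimpleOddOrder G)
    (h1350 : type_of% (@Cfsg.CfsgFrozen.S1350 G _ _ hG))
    (h1351 : type_of% (@Cfsg.CfsgFrozen.S1351 G _ _ hG))
    (h1352 : type_of% (@Cfsg.CfsgFrozen.S1352 G _ _ hG))
    (h1355 : type_of% (@Cfsg.CfsgFrozen.S1355 G _ _ hG))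
    (h1364 : type_of% (@Cfsg.CfsgFrozen.S1364 G _ _ hG))
    (h1365 : type_of% (@Cfsg.CfsgFrozen.S1365 G _ _ hG))
    (h1420 : type_of% (@Cfsg.CfsgFrozen.S1420 G _ _ hG))
    (h1421 : type_of% (@Cfsg.CfsgFrozen.S1421 G _ _ hG))
    (h1430 : type_of% (@Cfsg.CfsgFrozen.S1430 G _ _ hG))
    (h1437 : type_of% (@Cfsg.CfsgFrozen.S1437 G _ _ hG))
    (h1439 : type_of% (@Cfsg.CfsgFrozen.S1439 G _ _ hG))
    (M : Subgroup G) (hM : IsCoatom M) :
    ⁅⁅M, M⁆, ⁅M, M⁆⁆ ≤ Cfsg.fittingOf M ∧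
      Cfsg.fittingOf M =
        (M ⊓ Subgroup.centralizer (Cfsg.fittingHallOf M : Set G)) ⊔ Cfsg.fittingHallOf M ∧
      ((Cfsg.kappa M).Nonempty → Cfsg.fittingOf M ≤ ⁅M, M⁆) := by
  classical
  have hodd : Odd (Nat.card G) := hG.1
  have hMsolv : Group.IsSolvable M := hG.2.2.2 M hM.1
  obtain ⟨hσH, -, -⟩ := h1350 M hM
  obtain ⟨⟨K, hK⟩, hKcyc⟩ := h1351 M hM
  have hKc : IsCyclic K := hKcyc K hK
  obtain ⟨⟨U, hKU⟩, hUn'⟩ := h1352 M hM K hKc hK
  have hUn := hUn' U hKU
  obtain ⟨hF1, hFσ, hσM', hM'lt, hnilq⟩ := h1355 M hM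
  obtain ⟨E, hE⟩ := exists_compl_sigmaCore M hσH
  have hσM : sigmaCore M ≤ M := sigmaCore_le M
  have hσn : M ≤ Subgroup.normalizer (sigmaCore M : Set G) := sigmaCore_normalizer M
  have hFM : fittingHallOf M ≤ M := fittingHallOf_le M
  have hFn : M ≤ Subgroup.normalizer (fittingHallOf M : Set G) :=
    le_normalizer_map_subtype M (fittingHall M)
  have hFnil : Group.IsNilpotent (fittingHallOf M) := by
    haveI := Cfsg.Agent.Lib.Helper4.CN.fittingHall_nilpotent ↥M
    exact Group.nilpotent_of_mulEquiv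
      ((fittingHall ↥M).equivMapOfInjective M.subtype M.subtype_injective)
  have hFle : fittingHallOf M ≤ fittingOf M :=
    le_fittingOf_of_normal_nilpotent hFM hFn hFnil
  have hσ1 : sigmaCore M ≠ ⊥ := fun h => hF1 (le_bot_iff.mp (h ▸ hFσ))
  have hconjσ : ∀ g ∈ M, ∀ x ∈ sigmaCore M, g * x * g⁻¹ ∈ sigmaCore M :=
    fun g hg x hx => (Subgroup.mem_normalizer_iff.mp (hσn hg) x).mp hx
  have hκ_of_bot : K = ⊥ → ∀ r, r ∉ kappa M := by
    intro hKb r hr
    have h1 := hK.2.2 r hr.1 hr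
    rw [hKb, Subgroup.relIndex_bot_left] at h1
    exact h1 hr.2.1
  -- the centralizer `C = C_M(M_F)`
  have hCM : M ⊓ Subgroup.centralizer (fittingHallOf M : Set G) ≤ M := inf_le_left
  have hCn : M ≤ Subgroup.normalizer
      ((M ⊓ Subgroup.centralizer (fittingHallOf M : Set G) : Subgroup G) : Set G) := by
    intro g hg
    apply Cfsg.Agent.Lib.Helper75.BG.mem_normalizer_of_map_le
    rintro _ ⟨c, ⟨hcM, hcc⟩, rfl⟩
    have e : (MulAut.conj g).toMonoidHom c = g * c * g⁻¹ := by simp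
    rw [e]
    refine ⟨M.mul_mem (M.mul_mem hg hcM) (M.inv_mem hg), Subgroup.mem_centralizer_iff.mpr ?_⟩
    intro y hy
    have hy' : g⁻¹ * y * g ∈ fittingHallOf M := by
      have := (Subgroup.mem_normalizer_iff.mp (hFn (M.inv_mem hg)) y).mp hy
      simpa using this
    have hcomm := Subgroup.mem_centralizer_iff.mp hcc _ hy'
    calc y * (g * c * g⁻¹) = g * ((g⁻¹ * y * g) * c) * g⁻¹ := by group
      _ = g * (c * (g⁻¹ * y * g)) * g⁻¹ := by rw [hcomm]
      _ = g * c * g⁻¹ * y := by group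
  have hCnil : Group.IsNilpotent
      ↥(M ⊓ Subgroup.centralizer (fittingHallOf M : Set G) : Subgroup G) := by
    apply hN M _ hCM inf_le_right
    by_cases hK1 : K = ⊥
    · -- `K = 1`
      have heq : fittingHallOf M = sigmaCore M := by
        by_contra hne
        obtain ⟨-, -, hKp, -⟩ := h1437 M hM K U hKU hne
        rw [hK1, Subgroup.card_bot] at hKp
        exact Nat.not_prime_one hKp
      have hκ := hκ_of_bot hK1
      have h21 : ∀ e ∈ E, e ≠ 1 →
          (∀ p : ℕ, p.Prime → p ∣ orderOf e → p ∈ tau1 M ∪ tau3 M) →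
          sigmaCore M ⊓ Subgroup.centralizer ({e} : Set G) = ⊥ := by
        intro e he he1 hp
        by_contra hne
        obtain ⟨⟨y, hyσ, hyc⟩, hy1⟩ := (Subgroup.ne_bot_iff_exists_ne_one).mp hne
        have hy1' : y ≠ 1 := fun h => hy1 (Subtype.ext h)
        have hoe : orderOf e ≠ 1 := by rwa [Ne, orderOf_eq_one_iff]
        obtain ⟨r, hr, hre⟩ := Nat.exists_prime_and_dvd hoe
        haveI : Fact r.Prime := ⟨hr⟩
        have hτ := hp r hr hre
        have hrσ : r ∉ sigma M := by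
          rcases hτ with h | h
          · exact h.2.1
          · exact h.2.1
        have hr1 : PRankLE r 1 M := by
          rcases hτ with h | h
          · exact h.2.2.2.2
          · exact h.2.2.2
        have hzo : orderOf (e ^ (orderOf e / r)) = r :=
          orderOf_pow_orderOf_div (orderOf_pos e).ne' hre
        have hey : e * y = y * e := Subgroup.mem_centralizer_iff.mp hyc e rfl
        have hzy : e ^ (orderOf e / r) * y = y * e ^ (orderOf e / r) :=
          (Commute.pow_left (show Commute e y from hey) _)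
        exact hκ r (mem_kappa_of_rank_one hodd M r hrσ hr1 _ (M.pow_mem (hE.1 he) _) hzo y hyσ
          hy1' hzy)
      obtain ⟨⟨A₀, hA₀E, hEA₀, hA₀c, hA₀⟩, -⟩ := h1421 M hM E hE h21
      have hA₀comm : ∀ a ∈ A₀, ∀ b ∈ A₀, a * b = b * a :=
        isMulCommutative_subgroup_iff.mp hA₀c
      have hdec : ∀ c ∈ M ⊓ Subgroup.centralizer (fittingHallOf M : Set G),
          ∃ a ∈ A₀, ∃ b ∈ sigmaCore M, c = a * b := by
        rintro c ⟨hcM, hcc⟩
        rw [heq] at hcc
        obtain ⟨a, ha, b, hb, hab⟩ := hE.2.2.2 c hcM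
        refine ⟨a, ?_, b, hb, hab⟩
        have hcb : ∀ x ∈ sigmaCore M, x * c = c * x :=
          fun x hx => Subgroup.mem_centralizer_iff.mp hcc x hx
        by_cases hb1 : b = 1
        · obtain ⟨⟨x, hx⟩, hx1⟩ := (Subgroup.ne_bot_iff_exists_ne_one).mp hσ1
          have hx1' : x ≠ 1 := fun h => hx1 (Subtype.ext h)
          apply hA₀ x hx hx1'
          refine ⟨ha, Subgroup.mem_centralizer_iff.mpr ?_⟩
          intro h hh
          rw [Set.mem_singleton_iff.mp hh]
          have e : a = c := by rw [hab, hb1, mul_one]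
          rw [e]
          exact hcb x hx
        · apply hA₀ b hb hb1
          refine ⟨ha, Subgroup.mem_centralizer_iff.mpr ?_⟩
          intro h hh
          rw [Set.mem_singleton_iff.mp hh]
          have h1 := hcb b hb
          rw [hab] at h1
          have h2 : b * a * b = a * b * b := by rw [mul_assoc]; exact h1
          exact mul_right_cancel h2
      have hcomm : ∀ c₁ ∈ M ⊓ Subgroup.centralizer (fittingHallOf M : Set G),
          ∀ c₂ ∈ M ⊓ Subgroup.centralizer (fittingHallOf M : Set G),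
          c₁ * c₂ * c₁⁻¹ * c₂⁻¹ ∈ sigmaCore M := by
        intro c₁ hc₁ c₂ hc₂
        obtain ⟨a₁, ha₁, b₁, hb₁, rfl⟩ := hdec c₁ hc₁
        obtain ⟨a₂, ha₂, b₂, hb₂, rfl⟩ := hdec c₂ hc₂
        have ha₁M : a₁ ∈ M := hE.1 (hA₀E ha₁)
        have ha₂M : a₂ ∈ M := hE.1 (hA₀E ha₂)
        have hcm := hA₀comm a₁ ha₁ a₂ ha₂
        have key : a₁ * b₁ * (a₂ * b₂) * (a₁ * b₁)⁻¹ * (a₂ * b₂)⁻¹ =
            (a₁ * b₁ * a₁⁻¹) * ((a₁ * a₂) * (b₂ * b₁⁻¹) * (a₁ * a₂)⁻¹) *
              ((a₁ * a₂ * a₁⁻¹) * b₂⁻¹ * (a₁ * a₂ * a₁⁻¹)⁻¹) * (a₁ * a₂ * a₁⁻¹ * a₂⁻¹) := by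
          group
        have hlast : a₁ * a₂ * a₁⁻¹ * a₂⁻¹ = 1 := by rw [hcm]; group
        rw [key, hlast, mul_one]
        exact mul_mem (mul_mem (hconjσ _ ha₁M _ hb₁)
          (hconjσ _ (M.mul_mem ha₁M ha₂M) _ (mul_mem hb₂ (inv_mem hb₁))))
          (hconjσ _ (M.mul_mem (M.mul_mem ha₁M ha₂M) (M.inv_mem ha₁M)) _ (inv_mem hb₂))
      apply bg56_isNilpotent_of_comm
      rintro _ ⟨x, hx, rfl⟩ _ ⟨y, hy, rfl⟩
      have hx' : (x : G) ∈ M ⊓ Subgroup.centralizer (fittingHallOf M : Set G) :=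
        Subgroup.mem_subgroupOf.mp hx
      have hy' : (y : G) ∈ M ⊓ Subgroup.centralizer (fittingHallOf M : Set G) :=
        Subgroup.mem_subgroupOf.mp hy
      rw [← map_mul, ← map_mul, QuotientGroup.mk'_apply, QuotientGroup.mk'_apply,
        QuotientGroup.eq]
      have h1 := hcomm _ (inv_mem hy') _ (inv_mem hx')
      rw [← heq] at h1
      obtain ⟨w, hw, hwe⟩ := h1
      have e : w = (x * y)⁻¹ * (y * x) := by
        apply Subtype.ext
        have hwe' : (w : G) = _ := hwe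
        rw [hwe']
        simp [mul_assoc]
      rw [← e]
      exact hw
    · -- `K ≠ 1`
      have hCle := bg56_centralizer_le hG h1364 h1430 M hM K U hKU hK1 hUn
      obtain ⟨hM'eq, -⟩ := h1365 M hM K U hKU hK1
      have hsub : (M ⊓ Subgroup.centralizer (fittingHallOf M : Set G)).subgroupOf M ≤
          commutator ↥M := by
        intro x hx
        have hx' : (x : G) ∈ U ⊔ sigmaCore M := hCle (Subgroup.mem_subgroupOf.mp hx)
        rw [← hM'eq, ← Subgroup.map_subtype_commutator] at hx'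
        obtain ⟨w, hw, hwe⟩ := hx'
        have e : w = x := Subtype.ext hwe
        rw [← e]
        exact hw
      exact Cfsg.Agent.Lib.Helper75.BG.isNilpotent_of_le (Subgroup.map_mono hsub) hnilq
  have hCle : M ⊓ Subgroup.centralizer (fittingHallOf M : Set G) ≤ fittingOf M :=
    le_fittingOf_of_normal_nilpotent hCM hCn hCnil
  have hclaim2 : fittingOf M =
      (M ⊓ Subgroup.centralizer (fittingHallOf M : Set G)) ⊔ fittingHallOf M :=
    le_antisymm (hA M) (sup_le hCle hFle)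
  have hclaim3 : (kappa M).Nonempty → fittingOf M ≤ ⁅M, M⁆ := by
    rintro ⟨r, hr⟩
    have hK1 : K ≠ ⊥ := fun h => hκ_of_bot h r hr
    obtain ⟨hM'eq, -⟩ := h1365 M hM K U hKU hK1
    obtain ⟨-, hYτ, hFeq⟩ := h1439 M hM
    refine hFeq.le.trans ?_
    rw [hM'eq]
    apply sup_le
    · exact (fittingOf_le (sigmaCore M)).trans le_sup_right
    · refine le_trans ?_ le_sup_left
      have hYM : piCoreOf {q | q.Prime ∧ q ∉ sigma M} (fittingOf M) ≤ M :=
        (Cfsg.Agent.Lib.Helper23.piCoreOf_le _ _).trans (fittingOf_le M)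
      have hYn : M ≤ Subgroup.normalizer
          ((piCoreOf {q | q.Prime ∧ q ∉ sigma M} (fittingOf M) : Subgroup G) : Set G) :=
        (fittingOf_normalizer M).trans
          (Cfsg.Agent.Lib.Helper23.normalizer_le_normalizer_piCoreOf _ _)
      have hYπ : ∀ p : ℕ, p.Prime →
          p ∣ Nat.card ↥(piCoreOf {q | q.Prime ∧ q ∉ sigma M} (fittingOf M)) →
          p ∈ {q | q.Prime ∧ q ∉ kappa M ∧ q ∉ sigma M} := by
        intro p hp hpd
        have h2 := hYτ p hp hpd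
        exact ⟨hp, not_mem_kappa_of_mem_tau2 h2, h2.2.1⟩
      obtain ⟨U', hU', hYU'⟩ := exists_piHallOf_ge _ M hMsolv _ hYM hYπ
      obtain ⟨m, hm, hUeq⟩ := exists_conj_of_isPiHallOf hMsolv hU'
        (isPiHallOf_of_sigmaDecomposition hσH hKU)
      rw [hUeq, ← Subgroup.mem_normalizer_iff_map_conj_eq.mp (hYn hm)]
      exact Subgroup.map_mono hYU'
  have hclaim1 : ⁅⁅M, M⁆, ⁅M, M⁆⁆ ≤ fittingOf M := by
    by_cases heq : fittingHallOf M = sigmaCore M
    · obtain ⟨-, hE'c, -, -⟩ := h1420 M hM E hE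
      have hEσ : E ≤ Subgroup.normalizer (sigmaCore M : Set G) := hE.1.trans hσn
      have hMle : M ≤ sigmaCore M ⊔ E := by
        intro m hm
        obtain ⟨a, ha, b, hb, rfl⟩ := hE.2.2.2 m hm
        exact mul_mem (Subgroup.mem_sup_right ha) (Subgroup.mem_sup_left hb)
      have h1 : ⁅M, M⁆ ≤ sigmaCore M ⊔ ⁅E, E⁆ :=
        (Subgroup.commutator_mono hMle hMle).trans (bg56_commutator_sup_le _ _ hEσ)
      have hE'E : ⁅E, E⁆ ≤ E := Cfsg.Agent.Lib.Helper23.commutator_self_le E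
      have h2 : ⁅⁅M, M⁆, ⁅M, M⁆⁆ ≤ sigmaCore M ⊔ ⁅⁅E, E⁆, ⁅E, E⁆⁆ :=
        (Subgroup.commutator_mono h1 h1).trans (bg56_commutator_sup_le _ _ (hE'E.trans hEσ))
      have h3 : ⁅⁅E, E⁆, ⁅E, E⁆⁆ = ⊥ := by
        rw [Subgroup.commutator_eq_bot_iff_le_centralizer]
        intro a ha
        rw [Subgroup.mem_centralizer_iff]
        intro b hb
        exact isMulCommutative_subgroup_iff.mp hE'c b hb a ha
      rw [h3, sup_bot_eq, ← heq] at h2
      exact h2.trans hFle
    · obtain ⟨hU, hσeq, hKp, hqp, hqdvd, hqβ, Q, hQF, hQn, hQp, hQidx, hQD⟩ :=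
        h1437 M hM K U hKU heq
      haveI : Fact (Nat.card ↥(sigmaCore M ⊓ Subgroup.centralizer (K : Set G))).Prime := ⟨hqp⟩
      haveI : Fact (Nat.card K).Prime := ⟨hKp⟩
      have hQσ : Q ≤ sigmaCore M := hQF.trans hFσ
      have hpκ : Nat.card K ∈ kappa M := hK.2.1 _ hKp dvd_rfl
      have hpσ : Nat.card K ∉ sigma M := hpκ.2.2.1
      have hqσ : Nat.card ↥(sigmaCore M ⊓ Subgroup.centralizer (K : Set G)) ∈ sigma M :=
        sigmaCore_isPi M _ hqp (hqdvd.trans (Subgroup.card_dvd_of_le hFσ))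
      have hpq : Nat.card K ≠ Nat.card ↥(sigmaCore M ⊓ Subgroup.centralizer (K : Set G)) :=
        fun h => hpσ (h ▸ hqσ)
      obtain ⟨kq, hkq⟩ := IsPGroup.iff_card.mp hQp
      have hcopQ : (Nat.card Q).Coprime (Q.relIndex M) := by
        rw [hkq]
        apply Nat.Coprime.pow_left
        rw [Nat.Prime.coprime_iff_not_dvd hqp,
          ← Subgroup.relIndex_mul_relIndex Q (sigmaCore M) M hQσ hσM]
        intro h
        rcases (Nat.Prime.dvd_mul hqp).mp h with h | h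
        · exact hQidx h
        · exact hσH.2.2 _ hqp hqσ h
      have hKpg : IsPGroup (Nat.card K) K := IsPGroup.of_card (n := 1) (pow_one _).symm
      have hKsyl : ¬ Nat.card K ∣ K.relIndex M := hK.2.2 _ hKp hpκ
      have hpQ : ¬ Nat.card K ∣ Nat.card Q := by
        rw [hkq]
        intro h
        exact hpq ((Nat.prime_dvd_prime_iff_eq hKp hqp).mp (hKp.dvd_of_dvd_pow h))
      obtain ⟨D, hD, hKD⟩ := hC M (sigmaCore M) Q K _ hKp hQσ hσM hQn hσn hcopQ hK.1 hKpg
        hKsyl hpQ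
      obtain ⟨hDnil, hQ0n, hQ0lt, hQcard, hQab, hQmin⟩ := hQD D hD
      have hDσ : D ≤ sigmaCore M := hD.2.1
      have hDQ : D ≤ Subgroup.normalizer (Q : Set G) := (hDσ.trans hσM).trans hQn
      have hKQ : K ≤ Subgroup.normalizer (Q : Set G) := hK.1.trans hQn
      have hσQD : sigmaCore M ≤ Q ⊔ D := by
        intro s hs
        obtain ⟨a, ha, b, hb, rfl⟩ := hD.2.2.2 s hs
        exact mul_mem (Subgroup.mem_sup_left ha) (Subgroup.mem_sup_right hb)
      have hQDK_M : Q ⊔ D ⊔ K ≤ M :=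
        sup_le (sup_le (hQσ.trans hσM) (hDσ.trans hσM)) hK.1
      have hsolv : Group.IsSolvable ↥(Q ⊔ D ⊔ K) :=
        Group.isSolvable_of_isSolvable_injective (Subgroup.inclusion_injective hQDK_M)
      have hqD : ¬ Nat.card ↥(sigmaCore M ⊓ Subgroup.centralizer (K : Set G)) ∣ Nat.card D := by
        rw [← relIndex_left_of_isComplIn hD]
        exact hQidx
      have hpD : ¬ Nat.card K ∣ Nat.card D := fun h =>
        hpσ (sigmaCore_isPi M _ hKp (h.trans (Subgroup.card_dvd_of_le hDσ)))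
      have hDK : D ⊓ Subgroup.centralizer (K : Set G) = ⊥ := by
        have h1 : Nat.card ↥(D ⊓ Subgroup.centralizer (K : Set G)) ∣
            Nat.card ↥(sigmaCore M ⊓ Subgroup.centralizer (K : Set G)) :=
          Subgroup.card_dvd_of_le (inf_le_inf_right _ hDσ)
        have h2 : Nat.card ↥(D ⊓ Subgroup.centralizer (K : Set G)) ∣ Nat.card D :=
          Subgroup.card_dvd_of_le inf_le_left
        rcases (Nat.dvd_prime hqp).mp h1 with h | h
        · exact Subgroup.card_eq_one.mp h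
        · exact absurd (h ▸ h2) hqD
      have hMle : M ≤ Q ⊔ D ⊔ K := by
        intro m hm
        obtain ⟨a, ha, b, hb, rfl⟩ := hKU.compl.2.2.2 m hm
        rw [hU, Subgroup.mem_bot] at ha
        rw [ha, one_mul]
        exact (sup_le le_sup_right (hσQD.trans le_sup_left)) hb
      have hDD : ⁅D, D⁆ ≤ Subgroup.centralizer (Q : Set G) :=
        hB Q D K _ _ hodd hKp hqp hpq hsolv hQp hDQ hKQ hKD rfl hqD hpD hDK hQ0lt hQcard
          (fun a ha b hb => (hQab a ha b hb).2)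
          (fun N h1 h2 h3 => hQmin N h1 h2 (hMle.trans h3))
      have hT : Group.IsNilpotent ↥(Q ⊔ ⁅D, D⁆) := by
        apply bg56_isNilpotent_sup_of_commute
        · intro a ha b hb
          exact Subgroup.mem_centralizer_iff.mp (hDD hb) a ha
        · exact hQp.isNilpotent
        · exact Cfsg.Agent.Lib.Helper75.BG.isNilpotent_of_le
            (Cfsg.Agent.Lib.Helper23.commutator_self_le D) hDnil
      have h1 : ⁅⁅M, M⁆, ⁅M, M⁆⁆ ≤ Q ⊔ ⁅D, D⁆ := by
        rw [← hσeq]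
        exact (Subgroup.commutator_mono hσQD hσQD).trans (bg56_commutator_sup_le _ _ hDQ)
      have hM'M : ⁅M, M⁆ ≤ M := Cfsg.Agent.Lib.Helper23.commutator_self_le M
      have hM'n : M ≤ Subgroup.normalizer ((⁅M, M⁆ : Subgroup G) : Set G) :=
        bg56_le_normalizer_commutator Subgroup.le_normalizer Subgroup.le_normalizer
      exact le_fittingOf_of_normal_nilpotent
        ((Cfsg.Agent.Lib.Helper23.commutator_self_le _).trans hM'M)
        (bg56_le_normalizer_commutator hM'n hM'n)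
        (Cfsg.Agent.Lib.Helper75.BG.isNilpotent_of_le h1 hT)
  exact ⟨hclaim1, hclaim2, hclaim3⟩

end bg

end Cfsg.Agent.Lib.Helper9.BG1356
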